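import Cfsg.Agent.Lib.KC2.Snd
import Cfsg.Agent.Lib.KC2.R11.P0
import Cfsg.Agent.Lib.KC2.R11.P1
import Cfsg.Agent.Lib.KC2.R11.P2
import Cfsg.Agent.Lib.KC2.R11.P3
import Cfsg.Agent.Lib.KC2.R11.P4
import Cfsg.Agent.Lib.KC2.R11.P5
import Cfsg.Agent.Lib.KC2.R11.P6
import Cfsg.Agent.Lib.KC2.R11.P7
import Cfsg.Agent.Lib.KC2.R11.P8
import Cfsg.Agent.Lib.KC2.R11.P9
import Cfsg.Agent.Lib.KC2.R11.P10
import Cfsg.Agent.Lib.KC2.R11.P11
import Cfsg.Agent.Lib.KC2.R11.P12
import Cfsg.Agent.Lib.KC2.R11.P13
import Cfsg.Agent.Lib.KC2.R11.P14
import Cfsg.Agent.Lib.KC2.R11.P15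
import Cfsg.Agent.Lib.KC2.R11.P16
import Cfsg.Agent.Lib.KC2.R11.P17
import Cfsg.Agent.Lib.KC2.R11.P18
import Cfsg.Agent.Lib.KC2.R11.P19
import Cfsg.Agent.Lib.KC2.R11.P20
import Cfsg.Agent.Lib.KC2.R11.P21
import Cfsg.Agent.Lib.KC2.R11.P22
import Cfsg.Agent.Lib.KC2.R11.P23
import Cfsg.Agent.Lib.KC2.R11.P24
import Cfsg.Agent.Lib.KC2.R11.P25
import Cfsg.Agent.Lib.KC2.R11.P26
import Cfsg.Agent.Lib.KC2.R11.P27
import Cfsg.Agent.Lib.KC2.R11.P28
import Cfsg.Agent.Lib.KC2.R11.P29
import Cfsg.Agent.Lib.KC2.R11.P30
import Cfsg.Agent.Lib.KC2.R11.P31
import Cfsg.Agent.Lib.KC2.R11.P32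
import Cfsg.Agent.Lib.KC2.R11.P33
import Cfsg.Agent.Lib.KC2.R11.P34
import Cfsg.Agent.Lib.KC2.R11.P35
import Cfsg.Agent.Lib.KC2.R11.P36
import Cfsg.Agent.Lib.KC2.R11.P37
import Cfsg.Agent.Lib.KC2.R11.P38
import Cfsg.Agent.Lib.KC2.R11.P39
import Cfsg.Agent.Lib.KC2.R11.P40
import Cfsg.Agent.Lib.KC2.R11.P41
import Cfsg.Agent.Lib.KC2.R11.P42
import Cfsg.Agent.Lib.KC2.R11.P43
import Cfsg.Agent.Lib.KC2.R11.P44
import Cfsg.Agent.Lib.KC2.R11.P45
import Cfsg.Agent.Lib.KC2.R11.P46
import Cfsg.Agent.Lib.KC2.R11.P47
import Cfsg.Agent.Lib.KC2.R11.P48
import Cfsg.Agent.Lib.KC2.R11.P49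
import Cfsg.Agent.Lib.KC2.R11.P50
import Cfsg.Agent.Lib.KC2.R11.P51
import Cfsg.Agent.Lib.KC2.R11.P52
import Cfsg.Agent.Lib.KC2.R11.P53
import Cfsg.Agent.Lib.KC2.R11.P54
import Cfsg.Agent.Lib.KC2.R11.P55
import Cfsg.Agent.Lib.KC2.R11.P56
import Cfsg.Agent.Lib.KC2.R11.P57
import Cfsg.Agent.Lib.KC2.R11.P58
import Cfsg.Agent.Lib.KC2.R11.P59
import Cfsg.Agent.Lib.KC2.R11.P60
import Cfsg.Agent.Lib.KC2.R11.P61
import Cfsg.Agent.Lib.KC2.R11.P62
import Cfsg.Agent.Lib.KC2.R11.P63
import Cfsg.Agent.Lib.KC2.R11.P64
import Cfsg.Agent.Lib.KC2.R11.P65
import Cfsg.Agent.Lib.KC2.R11.P66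
import Cfsg.Agent.Lib.KC2.R11.P67
import Cfsg.Agent.Lib.KC2.R11.P68
import Cfsg.Agent.Lib.KC2.R11.P69
import Cfsg.Agent.Lib.KC2.R11.P70
import Cfsg.Agent.Lib.KC2.R11.P71
import Cfsg.Agent.Lib.KC2.R11.P72
import Cfsg.Agent.Lib.KC2.R11.P73
import Cfsg.Agent.Lib.KC2.R11.P74
import Cfsg.Agent.Lib.KC2.R11.P75
import Cfsg.Agent.Lib.KC2.R11.P76
import Cfsg.Agent.Lib.KC2.R11.P77
import Cfsg.Agent.Lib.KC2.R11.P78
import Cfsg.Agent.Lib.KC2.R11.P79
import Cfsg.Agent.Lib.KC2.R11.P80
import Cfsg.Agent.Lib.KC2.R11.P81
import Cfsg.Agent.Lib.KC2.R11.P82
import Cfsg.Agent.Lib.KC2.R11.P83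
import Cfsg.Agent.Lib.KC2.R11.P84
import Cfsg.Agent.Lib.KC2.R11.P85
import Cfsg.Agent.Lib.KC2.R11.P86
import Cfsg.Agent.Lib.KC2.R11.P87
import Cfsg.Agent.Lib.KC2.R11.P88
import Cfsg.Agent.Lib.KC2.R11.P89
import Cfsg.Agent.Lib.KC2.R11.P90
import Cfsg.Agent.Lib.KC2.R11.P91
import Cfsg.Agent.Lib.KC2.R11.P92
import Cfsg.Agent.Lib.KC2.R11.P93
import Cfsg.Agent.Lib.KC2.R11.P94
import Cfsg.Agent.Lib.KC2.R11.P95
import Cfsg.Agent.Lib.KC2.R11.P96
import Cfsg.Agent.Lib.KC2.R11.P97
import Cfsg.Agent.Lib.KC2.R11.P98
import Cfsg.Agent.Lib.KC2.R11.P99

set_option autoImplicit false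
set_option maxRecDepth 100000

namespace Cfsg.Agent.KC2.R11
open KC

theorem pq {lo hi : ℕ} (h : Part lo hi) : PQ 10 T11.OL sv lo hi := pq_of T11.tab h

theorem q0 : PQ 10 T11.OL sv (nat_lit 0)
    (nat_lit 0x300000003010000000005000000050100000000070000000701000000000800000008020000000020000000040200000001000000000201) :=
  (((((((((pq p0).trans (pq p1)).trans (pq p2)).trans (pq p3)).trans (pq p4)).trans (pq p5)).trans (pq p6)).trans (pq p7)).trans (pq p8)).trans (pq p9)

theorem q1 : PQ 10 T11.OL sv (nat_lit 0x300000003010000000005000000050100000000070000000701000000000800000008020000000020000000040200000001000000000201)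
    (nat_lit 0x300000003010000000005000000050100000000080000000802000000000e0000000e01000000000e000000070200000004000000000201) :=
  (((((((((pq p10).trans (pq p11)).trans (pq p12)).trans (pq p13)).trans (pq p14)).trans (pq p15)).trans (pq p16)).trans (pq p17)).trans (pq p18)).trans (pq p19)

theorem q2 : PQ 10 T11.OL sv (nat_lit 0x300000003010000000005000000050100000000080000000802000000000e0000000e01000000000e000000070200000004000000000201)
    (nat_lit 0x300000003010000000005000000050200000000080000000402000000008000000004010000000100000000020100000001100000002201) :=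
  (((((((((pq p20).trans (pq p21)).trans (pq p22)).trans (pq p23)).trans (pq p24)).trans (pq p25)).trans (pq p26)).trans (pq p27)).trans (pq p28)).trans (pq p29)

theorem q3 : PQ 10 T11.OL sv (nat_lit 0x300000003010000000005000000050200000000080000000402000000008000000004010000000100000000020100000001100000002201)
    (nat_lit 0x3000000030100000000050000000502000000000800000008020000000040000000080100000003c8000000160100000400000000000401) :=
  (((((((((pq p30).trans (pq p31)).trans (pq p32)).trans (pq p33)).trans (pq p34)).trans (pq p35)).trans (pq p36)).trans (pq p37)).trans (pq p38)).trans (pq p39)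

theorem q4 : PQ 10 T11.OL sv (nat_lit 0x3000000030100000000050000000502000000000800000008020000000040000000080100000003c8000000160100000400000000000401)
    (nat_lit 0x30000000301000000000700000007020000000008000000080100000000080000000801000000000a0000000a0100000000400000000801) :=
  (((((((((pq p40).trans (pq p41)).trans (pq p42)).trans (pq p43)).trans (pq p44)).trans (pq p45)).trans (pq p46)).trans (pq p47)).trans (pq p48)).trans (pq p49)

theorem q5 : PQ 10 T11.OL sv (nat_lit 0x30000000301000000000700000007020000000008000000080100000000080000000801000000000a0000000a0100000000400000000801)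
    (nat_lit 0x30000000301000000000800000008010000000008000000040100000000080000000401000000000a0000000a01000000000b0000000b01) :=
  (((((((((pq p50).trans (pq p51)).trans (pq p52)).trans (pq p53)).trans (pq p54)).trans (pq p55)).trans (pq p56)).trans (pq p57)).trans (pq p58)).trans (pq p59)

theorem q6 : PQ 10 T11.OL sv (nat_lit 0x30000000301000000000800000008010000000008000000040100000000080000000401000000000a0000000a01000000000b0000000b01)
    (nat_lit 0x30000000301000000000a0000000a01000000000a0000000501000000000b0000000b01000000000e0000000e01000000000e0000000e02) :=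
  (((((((((pq p60).trans (pq p61)).trans (pq p62)).trans (pq p63)).trans (pq p64)).trans (pq p65)).trans (pq p66)).trans (pq p67)).trans (pq p68)).trans (pq p69)

theorem q7 : PQ 10 T11.OL sv (nat_lit 0x30000000301000000000a0000000a01000000000a0000000501000000000b0000000b01000000000e0000000e01000000000e0000000e02)
    (nat_lit 0x40000000401000000000500000005010000000006000000060200000000120000000601000000001b000000030100000000000000000000) :=
  (((((((((pq p70).trans (pq p71)).trans (pq p72)).trans (pq p73)).trans (pq p74)).trans (pq p75)).trans (pq p76)).trans (pq p77)).trans (pq p78)).trans (pq p79)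

theorem q8 : PQ 10 T11.OL sv (nat_lit 0x40000000401000000000500000005010000000006000000060200000000120000000601000000001b000000030100000000000000000000)
    (nat_lit 0x40000000401000000000500000005020000000007000000070100000000090000000301000000000c000000060100000000f20000001601) :=
  (((((((((pq p80).trans (pq p81)).trans (pq p82)).trans (pq p83)).trans (pq p84)).trans (pq p85)).trans (pq p86)).trans (pq p87)).trans (pq p88)).trans (pq p89)

theorem q9 : PQ 10 T11.OL sv (nat_lit 0x40000000401000000000500000005020000000007000000070100000000090000000301000000000c000000060100000000f20000001601)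
    (nat_lit 0x400000004010000000006000000060100000000080000000201000000000900000003010000000009000000030100000000090000000302) :=
  (((((((((pq p90).trans (pq p91)).trans (pq p92)).trans (pq p93)).trans (pq p94)).trans (pq p95)).trans (pq p96)).trans (pq p97)).trans (pq p98)).trans (pq p99)

theorem q10 : PQ 10 T11.OL sv (nat_lit 0x400000004010000000006000000060100000000080000000201000000000900000003010000000009000000030100000000090000000302)
    (nat_lit 0x4000000040100000000070000000703000000000c0000000602000000000c00000003010000000000000000000000000000000000000000) :=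
  (((((((((pq p100).trans (pq p101)).trans (pq p102)).trans (pq p103)).trans (pq p104)).trans (pq p105)).trans (pq p106)).trans (pq p107)).trans (pq p108)).trans (pq p109)

theorem q11 : PQ 10 T11.OL sv (nat_lit 0x4000000040100000000070000000703000000000c0000000602000000000c00000003010000000000000000000000000000000000000000)
    (nat_lit 0x500000005010000000006000000060100000000080000000402000000000900000003010000000009000000030100000000120000000302) :=
  (((((((((pq p110).trans (pq p111)).trans (pq p112)).trans (pq p113)).trans (pq p114)).trans (pq p115)).trans (pq p116)).trans (pq p117)).trans (pq p118)).trans (pq p119)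

theorem q12 : PQ 10 T11.OL sv (nat_lit 0x500000005010000000006000000060100000000080000000402000000000900000003010000000009000000030100000000120000000302)
    (nat_lit 0x500000005010000000007000000070200000000080000000801000000000800000004020000000009000000030100000000260000002601) :=
  (((((((((pq p120).trans (pq p121)).trans (pq p122)).trans (pq p123)).trans (pq p124)).trans (pq p125)).trans (pq p126)).trans (pq p127)).trans (pq p128)).trans (pq p129)

theorem q13 : PQ 10 T11.OL sv (nat_lit 0x500000005010000000007000000070200000000080000000801000000000800000004020000000009000000030100000000260000002601)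
    (nat_lit 0x5000000050200000000060000000601000000000700000007010000000008000000040100000000120000000301000000001d0000001d02) :=
  (((((((((pq p130).trans (pq p131)).trans (pq p132)).trans (pq p133)).trans (pq p134)).trans (pq p135)).trans (pq p136)).trans (pq p137)).trans (pq p138)).trans (pq p139)

theorem q14 : PQ 10 T11.OL sv (nat_lit 0x5000000050200000000060000000601000000000700000007010000000008000000040100000000120000000301000000001d0000001d02)
    (nat_lit 0x50000000502000000000600000006020000000006000000030100000000170000001701000000002c0000001601000000002c0000000b01) :=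
  (((((((((pq p140).trans (pq p141)).trans (pq p142)).trans (pq p143)).trans (pq p144)).trans (pq p145)).trans (pq p146)).trans (pq p147)).trans (pq p148)).trans (pq p149)

theorem q15 : PQ 10 T11.OL sv (nat_lit 0x50000000502000000000600000006020000000006000000030100000000170000001701000000002c0000001601000000002c0000000b01)
    (nat_lit 0x500000005020000000008000000020100000000080000000201000000000800000002010000000008000000020100000000000000000000) :=
  (((((((((pq p150).trans (pq p151)).trans (pq p152)).trans (pq p153)).trans (pq p154)).trans (pq p155)).trans (pq p156)).trans (pq p157)).trans (pq p158)).trans (pq p159)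

theorem q16 : PQ 10 T11.OL sv (nat_lit 0x500000005020000000008000000020100000000080000000201000000000800000002010000000008000000020100000000000000000000)
    (nat_lit 0x600000006010000000006000000030100000000080000000801000000000800000004010000000008000000040100000000080000000402) :=
  (((((((((pq p160).trans (pq p161)).trans (pq p162)).trans (pq p163)).trans (pq p164)).trans (pq p165)).trans (pq p166)).trans (pq p167)).trans (pq p168)).trans (pq p169)

theorem q17 : PQ 10 T11.OL sv (nat_lit 0x600000006010000000006000000030100000000080000000801000000000800000004010000000008000000040100000000080000000402)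
    (nat_lit 0x600000006010000000008000000080100000000080000000401000000000800000004010000000008000000040200000000100000000401) :=
  (((((((((pq p170).trans (pq p171)).trans (pq p172)).trans (pq p173)).trans (pq p174)).trans (pq p175)).trans (pq p176)).trans (pq p177)).trans (pq p178)).trans (pq p179)

theorem q18 : PQ 10 T11.OL sv (nat_lit 0x600000006010000000008000000080100000000080000000401000000000800000004010000000008000000040200000000100000000401)
    (nat_lit 0x600000006020000000008000000040200000000090000000901000000000900000003010000000009000000030100000000180000000201) :=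
  (((((((((pq p180).trans (pq p181)).trans (pq p182)).trans (pq p183)).trans (pq p184)).trans (pq p185)).trans (pq p186)).trans (pq p187)).trans (pq p188)).trans (pq p189)

theorem q19 : PQ 10 T11.OL sv (nat_lit 0x600000006020000000008000000040200000000090000000901000000000900000003010000000009000000030100000000180000000201)
    (nat_lit 0x1000000000000000000000000000000000000000000000000000000000000000000000000000000000000000000000000000000000000000000000000) :=
  (((((((((pq p190).trans (pq p191)).trans (pq p192)).trans (pq p193)).trans (pq p194)).trans (pq p195)).trans (pq p196)).trans (pq p197)).trans (pq p198)).trans (pq p199)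

theorem mem {g : ℕ} {L : List En} (A : Ax 10 g L) (B : Ax2 g L) (F : Lf g L) : (g, L) ∈ sv :=
  PQ.mem ((((((((((((((((((((q0).trans q1).trans q2).trans q3).trans q4).trans q5).trans q6).trans q7).trans q8).trans q9).trans q10).trans q11).trans q12).trans q13).trans q14).trans q15).trans q16).trans q17).trans q18).trans q19) A (T11.ord A) B F

end Cfsg.Agent.KC2.R11
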