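import Cfsg.Agent.Lib.KC2.Skip
import Cfsg.Agent.Lib.KC.T11

set_option autoImplicit false
set_option maxRecDepth 100000

namespace Cfsg.Agent.KC2.R11
open KC

/-- the surviving leaves -/
def sv : List (ℕ × List En) := [
(336, [(6, 1, 6), (3, 1, 6), (7, 1, 7), (4, 1, 8), (4, 1, 8), (4, 2, 16), (2, 1, 16), (2, 1, 24), (2, 1, 24)]),
(336, [(6, 1, 6), (3, 1, 6), (7, 1, 7), (8, 2, 8), (4, 2, 16), (2, 1, 16), (2, 1, 24), (2, 1, 24)]),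
(720, [(5, 1, 5), (4, 1, 8), (4, 1, 8), (3, 1, 9), (3, 1, 9), (3, 1, 9), (6, 1, 12), (2, 1, 16), (2, 1, 24), (3, 1, 36)]),
(720, [(5, 1, 5), (4, 1, 8), (4, 1, 8), (3, 1, 9), (3, 2, 9), (6, 1, 12), (2, 1, 16), (2, 1, 24), (3, 1, 36)]),
(720, [(5, 1, 5), (4, 1, 8), (4, 1, 8), (4, 1, 8), (3, 1, 9), (4, 2, 16), (4, 2, 16), (2, 1, 16)]),
(720, [(5, 1, 5), (4, 1, 8), (4, 1, 8), (9, 3, 9), (6, 1, 12), (2, 1, 16), (2, 1, 24), (3, 1, 36)]),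
(720, [(5, 1, 5), (4, 1, 8), (4, 2, 8), (3, 1, 9), (4, 2, 16), (4, 2, 16), (2, 1, 16)]),
(720, [(5, 1, 5), (4, 2, 8), (3, 1, 9), (3, 1, 9), (3, 1, 9), (6, 1, 12), (2, 1, 16), (2, 1, 24), (3, 1, 36)]),
(720, [(5, 1, 5), (4, 2, 8), (9, 3, 9), (6, 1, 12), (2, 1, 16), (2, 1, 24), (3, 1, 36)]),
(720, [(5, 1, 5), (6, 1, 6), (6, 1, 6), (4, 1, 8), (4, 1, 8), (2, 1, 16), (3, 1, 18), (3, 1, 18), (2, 1, 48), (2, 1, 48)]),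
(720, [(5, 1, 5), (6, 1, 6), (6, 1, 6), (4, 1, 8), (4, 1, 8), (3, 1, 18), (3, 1, 18), (2, 1, 24), (2, 1, 24), (2, 1, 48)]),
(720, [(5, 1, 5), (6, 1, 6), (6, 1, 6), (4, 2, 8), (2, 1, 16), (3, 1, 18), (3, 1, 18), (2, 1, 48), (2, 1, 48)]),
(720, [(5, 1, 5), (6, 1, 6), (6, 1, 6), (4, 2, 8), (3, 1, 18), (3, 1, 18), (2, 1, 24), (2, 1, 24), (2, 1, 48)]),
(720, [(5, 1, 5), (6, 2, 6), (4, 1, 8), (4, 1, 8), (2, 1, 16), (3, 1, 18), (3, 1, 18), (2, 1, 48), (2, 1, 48)]),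
(720, [(5, 1, 5), (6, 2, 6), (4, 1, 8), (4, 1, 8), (3, 1, 18), (3, 1, 18), (2, 1, 24), (2, 1, 24), (2, 1, 48)]),
(720, [(5, 1, 5), (8, 2, 8), (4, 1, 8), (3, 1, 9), (4, 2, 16), (4, 2, 16), (2, 1, 16)]),
(756, [(6, 1, 6), (7, 2, 7), (3, 1, 9), (3, 1, 9), (3, 1, 9), (2, 1, 12), (3, 1, 18), (3, 1, 18), (3, 1, 54)]),
(756, [(6, 1, 6), (7, 2, 7), (3, 1, 9), (3, 1, 9), (3, 1, 9), (2, 1, 12), (3, 1, 18), (3, 1, 27), (3, 1, 27)]),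
(756, [(6, 1, 6), (7, 2, 7), (3, 1, 9), (3, 1, 9), (3, 1, 9), (2, 1, 12), (3, 1, 18), (3, 2, 27)]),
(756, [(6, 1, 6), (7, 2, 7), (3, 1, 9), (3, 1, 9), (3, 1, 9), (2, 1, 12), (3, 2, 18), (3, 1, 54)]),
(756, [(6, 1, 6), (7, 2, 7), (3, 1, 9), (3, 2, 9), (2, 1, 12), (3, 1, 18), (3, 1, 18), (3, 1, 54)]),
(756, [(6, 1, 6), (7, 2, 7), (3, 1, 9), (3, 2, 9), (2, 1, 12), (3, 1, 18), (3, 1, 27), (3, 1, 27)]),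
(756, [(6, 1, 6), (7, 2, 7), (9, 1, 9), (3, 1, 9), (3, 1, 9), (2, 1, 12), (3, 1, 18), (3, 1, 18), (3, 1, 54)]),
(756, [(6, 1, 6), (7, 2, 7), (9, 1, 9), (3, 1, 9), (3, 1, 9), (2, 1, 12), (3, 1, 18), (3, 1, 27), (3, 1, 27)]),
(756, [(6, 1, 6), (7, 2, 7), (9, 1, 9), (3, 1, 9), (3, 1, 9), (2, 1, 12), (3, 1, 18), (3, 2, 27)]),
(756, [(6, 1, 6), (7, 2, 7), (9, 1, 9), (3, 1, 9), (3, 1, 9), (2, 1, 12), (3, 2, 18), (3, 1, 54)]),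
(756, [(6, 1, 6), (7, 2, 7), (9, 1, 9), (3, 2, 9), (2, 1, 12), (3, 1, 18), (3, 1, 18), (3, 1, 54)]),
(756, [(6, 1, 6), (7, 2, 7), (9, 1, 9), (3, 2, 9), (2, 1, 12), (3, 1, 18), (3, 1, 27), (3, 1, 27)]),
(756, [(6, 1, 6), (7, 2, 7), (9, 1, 9), (9, 1, 9), (3, 1, 9), (2, 1, 12), (3, 1, 18), (3, 1, 18), (3, 1, 54)]),
(756, [(6, 1, 6), (7, 2, 7), (9, 1, 9), (9, 1, 9), (3, 1, 9), (2, 1, 12), (3, 1, 18), (3, 1, 27), (3, 1, 27)]),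
(756, [(6, 1, 6), (7, 2, 7), (9, 1, 9), (9, 1, 9), (3, 1, 9), (2, 1, 12), (3, 1, 18), (3, 2, 27)]),
(756, [(6, 1, 6), (7, 2, 7), (9, 1, 9), (9, 1, 9), (3, 1, 9), (2, 1, 12), (3, 2, 18), (3, 1, 54)]),
(756, [(6, 1, 6), (7, 2, 7), (9, 1, 9), (9, 1, 9), (9, 1, 9), (2, 1, 12), (3, 1, 18), (3, 1, 18), (3, 1, 54)]),
(756, [(6, 1, 6), (7, 2, 7), (9, 1, 9), (9, 1, 9), (9, 1, 9), (2, 1, 12), (3, 1, 18), (3, 1, 27), (3, 1, 27)]),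
(756, [(6, 1, 6), (7, 2, 7), (9, 1, 9), (9, 1, 9), (9, 1, 9), (2, 1, 12), (3, 1, 18), (3, 2, 27)]),
(756, [(6, 1, 6), (7, 2, 7), (9, 1, 9), (9, 1, 9), (9, 1, 9), (2, 1, 12), (3, 2, 18), (3, 1, 54)]),
(756, [(6, 1, 6), (7, 2, 7), (9, 1, 9), (9, 2, 9), (2, 1, 12), (3, 1, 18), (3, 1, 18), (3, 1, 54)]),
(756, [(6, 1, 6), (7, 2, 7), (9, 1, 9), (9, 2, 9), (2, 1, 12), (3, 1, 18), (3, 1, 27), (3, 1, 27)]),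
(756, [(6, 1, 6), (7, 2, 7), (9, 2, 9), (3, 1, 9), (2, 1, 12), (3, 1, 18), (3, 1, 18), (3, 1, 54)]),
(756, [(6, 1, 6), (7, 2, 7), (9, 2, 9), (3, 1, 9), (2, 1, 12), (3, 1, 18), (3, 1, 27), (3, 1, 27)]),
(756, [(6, 1, 6), (7, 2, 7), (9, 3, 9), (2, 1, 12), (3, 1, 18), (3, 1, 18), (3, 1, 54)]),
(756, [(6, 1, 6), (7, 2, 7), (9, 3, 9), (2, 1, 12), (3, 1, 18), (3, 1, 27), (3, 1, 27)]),
(756, [(6, 1, 6), (7, 2, 7), (9, 3, 9), (2, 1, 12), (3, 1, 18), (3, 2, 27)]),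
(756, [(6, 1, 6), (7, 2, 7), (9, 3, 9), (2, 1, 12), (3, 2, 18), (3, 1, 54)]),
(1344, [(6, 1, 6), (3, 1, 6), (7, 2, 7), (4, 1, 8), (4, 1, 8), (4, 1, 16), (2, 1, 24), (2, 1, 64), (2, 1, 96)]),
(1344, [(6, 1, 6), (3, 1, 6), (7, 2, 7), (4, 1, 8), (4, 1, 8), (4, 1, 16), (2, 1, 32), (2, 1, 48), (2, 1, 64)]),
(1344, [(6, 1, 6), (3, 1, 6), (7, 2, 7), (4, 1, 8), (4, 1, 8), (4, 1, 16), (4, 1, 32), (2, 1, 48), (2, 1, 64)]),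
(1344, [(6, 1, 6), (3, 1, 6), (7, 2, 7), (4, 1, 8), (4, 1, 8), (8, 1, 16), (4, 1, 32), (2, 1, 48), (2, 1, 64)]),
(1344, [(6, 1, 6), (3, 1, 6), (7, 2, 7), (4, 2, 8), (4, 1, 16), (4, 1, 32), (2, 1, 48), (2, 1, 64)]),
(1344, [(6, 1, 6), (3, 1, 6), (7, 2, 7), (4, 2, 8), (8, 1, 16), (4, 1, 32), (2, 1, 48), (2, 1, 64)]),
(1344, [(6, 1, 6), (3, 1, 6), (7, 2, 7), (8, 1, 8), (4, 1, 8), (4, 1, 16), (2, 1, 24), (2, 1, 64), (2, 1, 96)]),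
(1344, [(6, 1, 6), (3, 1, 6), (7, 2, 7), (8, 1, 8), (4, 1, 8), (4, 1, 16), (2, 1, 32), (2, 1, 48), (2, 1, 64)]),
(1344, [(6, 1, 6), (3, 1, 6), (7, 2, 7), (8, 1, 8), (4, 1, 8), (4, 1, 16), (4, 1, 32), (2, 1, 48), (2, 1, 64)]),
(1344, [(6, 1, 6), (3, 1, 6), (7, 2, 7), (8, 1, 8), (4, 1, 8), (8, 1, 16), (4, 1, 32), (2, 1, 48), (2, 1, 64)]),
(1344, [(6, 1, 6), (3, 1, 6), (7, 2, 7), (8, 1, 8), (8, 1, 8), (4, 1, 16), (2, 1, 24), (2, 1, 64), (2, 1, 96)]),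
(1344, [(6, 1, 6), (3, 1, 6), (7, 2, 7), (8, 1, 8), (8, 1, 8), (4, 1, 16), (2, 1, 32), (2, 1, 48), (2, 1, 64)]),
(1344, [(6, 1, 6), (3, 1, 6), (7, 2, 7), (8, 1, 8), (8, 1, 8), (4, 1, 16), (4, 1, 32), (2, 1, 48), (2, 1, 64)]),
(1344, [(6, 1, 6), (3, 1, 6), (7, 2, 7), (8, 1, 8), (8, 1, 8), (8, 1, 16), (4, 1, 32), (2, 1, 48), (2, 1, 64)]),
(1344, [(6, 1, 6), (3, 1, 6), (7, 2, 7), (8, 2, 8), (4, 1, 16), (2, 1, 24), (2, 1, 64), (2, 1, 96)]),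
(1344, [(6, 1, 6), (3, 1, 6), (7, 2, 7), (8, 2, 8), (4, 1, 16), (2, 1, 32), (2, 1, 48), (2, 1, 64)]),
(1344, [(6, 1, 6), (3, 1, 6), (7, 2, 7), (8, 2, 8), (4, 1, 16), (4, 1, 32), (2, 1, 48), (2, 1, 64)]),
(1344, [(6, 1, 6), (3, 1, 6), (7, 2, 7), (8, 2, 8), (8, 1, 16), (4, 1, 32), (2, 1, 48), (2, 1, 64)]),
(1512, [(6, 2, 6), (7, 1, 7), (3, 1, 9), (3, 1, 9), (3, 1, 9), (3, 1, 9), (2, 1, 24), (3, 1, 54), (3, 1, 54)]),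
(1512, [(6, 2, 6), (7, 1, 7), (3, 1, 9), (3, 1, 9), (3, 1, 9), (3, 1, 9), (2, 1, 24), (3, 2, 54)]),
(1512, [(6, 2, 6), (7, 1, 7), (3, 1, 9), (3, 1, 9), (3, 1, 9), (3, 1, 18), (3, 1, 18), (2, 1, 24), (3, 1, 27)]),
(1512, [(6, 2, 6), (7, 1, 7), (3, 1, 9), (3, 1, 9), (3, 1, 9), (3, 2, 18), (2, 1, 24), (3, 1, 27)]),
(1512, [(6, 2, 6), (7, 1, 7), (3, 1, 9), (3, 1, 9), (3, 2, 9), (2, 1, 24), (3, 1, 54), (3, 1, 54)]),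
(1512, [(6, 2, 6), (7, 1, 7), (3, 1, 9), (3, 1, 9), (3, 2, 9), (2, 1, 24), (3, 2, 54)]),
(1512, [(6, 2, 6), (7, 1, 7), (3, 1, 9), (3, 2, 9), (3, 1, 18), (3, 1, 18), (2, 1, 24), (3, 1, 27)]),
(1512, [(6, 2, 6), (7, 1, 7), (3, 1, 9), (3, 2, 9), (3, 2, 18), (2, 1, 24), (3, 1, 27)]),
(1512, [(6, 2, 6), (7, 1, 7), (3, 2, 9), (3, 2, 9), (2, 1, 24), (3, 1, 54), (3, 1, 54)]),
(1512, [(6, 2, 6), (7, 1, 7), (9, 1, 9), (3, 1, 9), (3, 1, 9), (3, 1, 9), (2, 1, 24), (3, 1, 54), (3, 1, 54)]),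
(1512, [(6, 2, 6), (7, 1, 7), (9, 1, 9), (3, 1, 9), (3, 1, 9), (3, 1, 9), (2, 1, 24), (3, 2, 54)]),
(1512, [(6, 2, 6), (7, 1, 7), (9, 1, 9), (3, 1, 9), (3, 1, 9), (3, 1, 18), (3, 1, 18), (2, 1, 24), (3, 1, 27)]),
(1512, [(6, 2, 6), (7, 1, 7), (9, 1, 9), (3, 1, 9), (3, 1, 9), (3, 2, 18), (2, 1, 24), (3, 1, 27)]),
(1512, [(6, 2, 6), (7, 1, 7), (9, 1, 9), (3, 1, 9), (3, 2, 9), (2, 1, 24), (3, 1, 54), (3, 1, 54)]),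
(1512, [(6, 2, 6), (7, 1, 7), (9, 1, 9), (3, 1, 9), (3, 2, 9), (2, 1, 24), (3, 2, 54)]),
(1512, [(6, 2, 6), (7, 1, 7), (9, 1, 9), (3, 2, 9), (3, 1, 18), (3, 1, 18), (2, 1, 24), (3, 1, 27)]),
(1512, [(6, 2, 6), (7, 1, 7), (9, 1, 9), (3, 2, 9), (3, 2, 18), (2, 1, 24), (3, 1, 27)]),
(1512, [(6, 2, 6), (7, 1, 7), (9, 1, 9), (9, 1, 9), (3, 1, 9), (3, 1, 9), (2, 1, 24), (3, 1, 54), (3, 1, 54)]),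
(1512, [(6, 2, 6), (7, 1, 7), (9, 1, 9), (9, 1, 9), (3, 1, 9), (3, 1, 9), (2, 1, 24), (3, 2, 54)]),
(1512, [(6, 2, 6), (7, 1, 7), (9, 1, 9), (9, 1, 9), (3, 1, 9), (3, 1, 18), (3, 1, 18), (2, 1, 24), (3, 1, 27)]),
(1512, [(6, 2, 6), (7, 1, 7), (9, 1, 9), (9, 1, 9), (3, 1, 9), (3, 2, 18), (2, 1, 24), (3, 1, 27)]),
(1512, [(6, 2, 6), (7, 1, 7), (9, 1, 9), (9, 1, 9), (3, 2, 9), (2, 1, 24), (3, 1, 54), (3, 1, 54)]),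
(1512, [(6, 2, 6), (7, 1, 7), (9, 1, 9), (9, 1, 9), (3, 2, 9), (2, 1, 24), (3, 2, 54)]),
(1512, [(6, 2, 6), (7, 1, 7), (9, 1, 9), (9, 1, 9), (9, 1, 9), (3, 1, 9), (2, 1, 24), (3, 1, 54), (3, 1, 54)]),
(1512, [(6, 2, 6), (7, 1, 7), (9, 1, 9), (9, 1, 9), (9, 1, 9), (3, 1, 9), (2, 1, 24), (3, 2, 54)]),
(1512, [(6, 2, 6), (7, 1, 7), (9, 1, 9), (9, 1, 9), (9, 1, 9), (3, 1, 18), (3, 1, 18), (2, 1, 24), (3, 1, 27)]),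
(1512, [(6, 2, 6), (7, 1, 7), (9, 1, 9), (9, 1, 9), (9, 1, 9), (3, 2, 18), (2, 1, 24), (3, 1, 27)]),
(1512, [(6, 2, 6), (7, 1, 7), (9, 1, 9), (9, 1, 9), (9, 1, 9), (9, 1, 9), (2, 1, 24), (3, 1, 54), (3, 1, 54)]),
(1512, [(6, 2, 6), (7, 1, 7), (9, 1, 9), (9, 1, 9), (9, 1, 9), (9, 1, 9), (2, 1, 24), (3, 2, 54)]),
(1512, [(6, 2, 6), (7, 1, 7), (9, 1, 9), (9, 1, 9), (9, 2, 9), (2, 1, 24), (3, 1, 54), (3, 1, 54)]),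
(1512, [(6, 2, 6), (7, 1, 7), (9, 1, 9), (9, 1, 9), (9, 2, 9), (2, 1, 24), (3, 2, 54)]),
(1512, [(6, 2, 6), (7, 1, 7), (9, 1, 9), (9, 2, 9), (3, 1, 9), (2, 1, 24), (3, 1, 54), (3, 1, 54)]),
(1512, [(6, 2, 6), (7, 1, 7), (9, 1, 9), (9, 2, 9), (3, 1, 9), (2, 1, 24), (3, 2, 54)]),
(1512, [(6, 2, 6), (7, 1, 7), (9, 1, 9), (9, 2, 9), (3, 1, 18), (3, 1, 18), (2, 1, 24), (3, 1, 27)]),
(1512, [(6, 2, 6), (7, 1, 7), (9, 1, 9), (9, 2, 9), (3, 2, 18), (2, 1, 24), (3, 1, 27)]),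
(1512, [(6, 2, 6), (7, 1, 7), (9, 1, 9), (9, 3, 9), (2, 1, 24), (3, 1, 54), (3, 1, 54)]),
(1512, [(6, 2, 6), (7, 1, 7), (9, 1, 9), (9, 3, 9), (2, 1, 24), (3, 2, 54)]),
(1512, [(6, 2, 6), (7, 1, 7), (9, 2, 9), (3, 1, 9), (3, 1, 9), (2, 1, 24), (3, 1, 54), (3, 1, 54)]),
(1512, [(6, 2, 6), (7, 1, 7), (9, 2, 9), (3, 1, 9), (3, 1, 9), (2, 1, 24), (3, 2, 54)]),
(1512, [(6, 2, 6), (7, 1, 7), (9, 2, 9), (3, 1, 9), (3, 1, 18), (3, 1, 18), (2, 1, 24), (3, 1, 27)]),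
(1512, [(6, 2, 6), (7, 1, 7), (9, 2, 9), (3, 1, 9), (3, 2, 18), (2, 1, 24), (3, 1, 27)]),
(1512, [(6, 2, 6), (7, 1, 7), (9, 2, 9), (3, 2, 9), (2, 1, 24), (3, 1, 54), (3, 1, 54)]),
(1512, [(6, 2, 6), (7, 1, 7), (9, 2, 9), (9, 2, 9), (2, 1, 24), (3, 1, 54), (3, 1, 54)]),
(1512, [(6, 2, 6), (7, 1, 7), (9, 3, 9), (3, 1, 9), (2, 1, 24), (3, 1, 54), (3, 1, 54)]),
(1512, [(6, 2, 6), (7, 1, 7), (9, 3, 9), (3, 1, 9), (2, 1, 24), (3, 2, 54)]),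
(1512, [(6, 2, 6), (7, 1, 7), (9, 3, 9), (3, 1, 18), (3, 1, 18), (2, 1, 24), (3, 1, 27)]),
(1512, [(6, 2, 6), (7, 1, 7), (9, 3, 9), (3, 2, 18), (2, 1, 24), (3, 1, 27)]),
(1920, [(5, 1, 5), (6, 1, 6), (3, 1, 6), (4, 1, 8), (4, 1, 8), (4, 1, 8), (2, 1, 24), (4, 1, 32), (2, 1, 96), (2, 1, 128)]),
(1920, [(5, 1, 5), (6, 1, 6), (3, 1, 6), (4, 1, 8), (4, 1, 8), (4, 1, 8), (4, 1, 16), (2, 1, 64), (2, 1, 128), (2, 1, 192)]),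
(1920, [(5, 1, 5), (6, 1, 6), (3, 1, 6), (4, 1, 8), (4, 1, 8), (4, 1, 8), (4, 1, 16), (2, 1, 96), (2, 1, 96), (2, 1, 128)]),
(1920, [(5, 1, 5), (6, 1, 6), (3, 1, 6), (4, 1, 8), (4, 1, 8), (4, 1, 8), (4, 1, 32), (2, 1, 32), (2, 1, 48), (2, 1, 128)]),
(1920, [(5, 1, 5), (6, 1, 6), (3, 1, 6), (4, 1, 8), (4, 1, 8), (4, 1, 8), (4, 1, 32), (4, 1, 32), (2, 1, 48), (2, 1, 128)]),
(1920, [(5, 1, 5), (6, 1, 6), (3, 1, 6), (4, 1, 8), (4, 1, 8), (4, 1, 8), (4, 2, 32), (2, 1, 48), (2, 1, 128)]),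
(1920, [(5, 1, 5), (6, 1, 6), (3, 1, 6), (4, 1, 8), (4, 1, 8), (4, 1, 8), (8, 1, 32), (4, 1, 32), (2, 1, 48), (2, 1, 128)]),
(1920, [(5, 1, 5), (6, 1, 6), (3, 1, 6), (4, 1, 8), (4, 1, 8), (4, 1, 16), (4, 1, 16), (4, 1, 16), (2, 1, 48), (2, 1, 128)]),
(1920, [(5, 1, 5), (6, 1, 6), (3, 1, 6), (4, 1, 8), (4, 1, 8), (4, 1, 16), (4, 2, 16), (2, 1, 48), (2, 1, 128)]),
(1920, [(5, 1, 5), (6, 1, 6), (3, 1, 6), (4, 1, 8), (4, 1, 8), (8, 1, 16), (4, 1, 16), (4, 1, 16), (2, 1, 48), (2, 1, 128)]),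
(1920, [(5, 1, 5), (6, 1, 6), (3, 1, 6), (4, 1, 8), (4, 1, 8), (8, 1, 16), (4, 2, 16), (2, 1, 48), (2, 1, 128)]),
(1920, [(5, 1, 5), (6, 1, 6), (3, 1, 6), (4, 1, 8), (4, 1, 8), (8, 1, 16), (8, 1, 16), (4, 1, 16), (2, 1, 48), (2, 1, 128)]),
(1920, [(5, 1, 5), (6, 1, 6), (3, 1, 6), (4, 1, 8), (4, 1, 8), (8, 2, 16), (4, 1, 16), (2, 1, 48), (2, 1, 128)]),
(1920, [(5, 1, 5), (6, 1, 6), (3, 1, 6), (4, 1, 8), (4, 1, 8), (16, 1, 16), (8, 1, 16), (4, 1, 16), (2, 1, 48), (2, 1, 128)]),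
(1920, [(5, 1, 5), (6, 1, 6), (3, 1, 6), (4, 1, 8), (4, 2, 8), (2, 1, 24), (4, 1, 32), (2, 1, 96), (2, 1, 128)]),
(1920, [(5, 1, 5), (6, 1, 6), (3, 1, 6), (4, 1, 8), (4, 2, 8), (4, 1, 16), (2, 1, 64), (2, 1, 128), (2, 1, 192)]),
(1920, [(5, 1, 5), (6, 1, 6), (3, 1, 6), (4, 1, 8), (4, 2, 8), (4, 1, 16), (2, 1, 96), (2, 1, 96), (2, 1, 128)]),
(1920, [(5, 1, 5), (6, 1, 6), (3, 1, 6), (4, 1, 8), (4, 2, 8), (4, 1, 32), (2, 1, 32), (2, 1, 48), (2, 1, 128)]),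
(1920, [(5, 1, 5), (6, 1, 6), (3, 1, 6), (4, 1, 8), (4, 2, 8), (4, 1, 32), (4, 1, 32), (2, 1, 48), (2, 1, 128)]),
(1920, [(5, 1, 5), (6, 1, 6), (3, 1, 6), (4, 1, 8), (4, 2, 8), (4, 2, 32), (2, 1, 48), (2, 1, 128)]),
(1920, [(5, 1, 5), (6, 1, 6), (3, 1, 6), (4, 1, 8), (4, 2, 8), (8, 1, 32), (4, 1, 32), (2, 1, 48), (2, 1, 128)]),
(1920, [(5, 1, 5), (6, 1, 6), (3, 1, 6), (4, 2, 8), (4, 1, 16), (4, 1, 16), (4, 1, 16), (2, 1, 48), (2, 1, 128)]),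
(1920, [(5, 1, 5), (6, 1, 6), (3, 1, 6), (4, 2, 8), (4, 1, 16), (4, 2, 16), (2, 1, 48), (2, 1, 128)]),
(1920, [(5, 1, 5), (6, 1, 6), (3, 1, 6), (4, 2, 8), (8, 1, 16), (4, 1, 16), (4, 1, 16), (2, 1, 48), (2, 1, 128)]),
(1920, [(5, 1, 5), (6, 1, 6), (3, 1, 6), (4, 2, 8), (8, 1, 16), (4, 2, 16), (2, 1, 48), (2, 1, 128)]),
(1920, [(5, 1, 5), (6, 1, 6), (3, 1, 6), (4, 2, 8), (8, 1, 16), (8, 1, 16), (4, 1, 16), (2, 1, 48), (2, 1, 128)]),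
(1920, [(5, 1, 5), (6, 1, 6), (3, 1, 6), (4, 2, 8), (8, 2, 16), (4, 1, 16), (2, 1, 48), (2, 1, 128)]),
(1920, [(5, 1, 5), (6, 1, 6), (3, 1, 6), (4, 2, 8), (16, 1, 16), (8, 1, 16), (4, 1, 16), (2, 1, 48), (2, 1, 128)]),
(1920, [(5, 1, 5), (6, 1, 6), (3, 1, 6), (8, 1, 8), (4, 1, 8), (4, 1, 8), (2, 1, 24), (4, 1, 32), (2, 1, 96), (2, 1, 128)]),
(1920, [(5, 1, 5), (6, 1, 6), (3, 1, 6), (8, 1, 8), (4, 1, 8), (4, 1, 8), (4, 1, 16), (2, 1, 64), (2, 1, 128), (2, 1, 192)]),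
(1920, [(5, 1, 5), (6, 1, 6), (3, 1, 6), (8, 1, 8), (4, 1, 8), (4, 1, 8), (4, 1, 16), (2, 1, 96), (2, 1, 96), (2, 1, 128)]),
(1920, [(5, 1, 5), (6, 1, 6), (3, 1, 6), (8, 1, 8), (4, 1, 8), (4, 1, 8), (4, 1, 32), (2, 1, 32), (2, 1, 48), (2, 1, 128)]),
(1920, [(5, 1, 5), (6, 1, 6), (3, 1, 6), (8, 1, 8), (4, 1, 8), (4, 1, 8), (4, 1, 32), (4, 1, 32), (2, 1, 48), (2, 1, 128)]),
(1920, [(5, 1, 5), (6, 1, 6), (3, 1, 6), (8, 1, 8), (4, 1, 8), (4, 1, 8), (4, 2, 32), (2, 1, 48), (2, 1, 128)]),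
(1920, [(5, 1, 5), (6, 1, 6), (3, 1, 6), (8, 1, 8), (4, 1, 8), (4, 1, 8), (8, 1, 32), (4, 1, 32), (2, 1, 48), (2, 1, 128)]),
(1920, [(5, 1, 5), (6, 1, 6), (3, 1, 6), (8, 1, 8), (4, 1, 8), (4, 1, 16), (4, 1, 16), (4, 1, 16), (2, 1, 48), (2, 1, 128)]),
(1920, [(5, 1, 5), (6, 1, 6), (3, 1, 6), (8, 1, 8), (4, 1, 8), (4, 1, 16), (4, 2, 16), (2, 1, 48), (2, 1, 128)]),
(1920, [(5, 1, 5), (6, 1, 6), (3, 1, 6), (8, 1, 8), (4, 1, 8), (8, 1, 16), (4, 1, 16), (4, 1, 16), (2, 1, 48), (2, 1, 128)]),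
(1920, [(5, 1, 5), (6, 1, 6), (3, 1, 6), (8, 1, 8), (4, 1, 8), (8, 1, 16), (4, 2, 16), (2, 1, 48), (2, 1, 128)]),
(1920, [(5, 1, 5), (6, 1, 6), (3, 1, 6), (8, 1, 8), (4, 1, 8), (8, 1, 16), (8, 1, 16), (4, 1, 16), (2, 1, 48), (2, 1, 128)]),
(1920, [(5, 1, 5), (6, 1, 6), (3, 1, 6), (8, 1, 8), (4, 1, 8), (8, 2, 16), (4, 1, 16), (2, 1, 48), (2, 1, 128)]),
(1920, [(5, 1, 5), (6, 1, 6), (3, 1, 6), (8, 1, 8), (4, 1, 8), (16, 1, 16), (8, 1, 16), (4, 1, 16), (2, 1, 48), (2, 1, 128)]),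
(1920, [(5, 1, 5), (6, 1, 6), (3, 1, 6), (8, 1, 8), (4, 2, 8), (2, 1, 24), (4, 1, 32), (2, 1, 96), (2, 1, 128)]),
(1920, [(5, 1, 5), (6, 1, 6), (3, 1, 6), (8, 1, 8), (4, 2, 8), (4, 1, 16), (2, 1, 64), (2, 1, 128), (2, 1, 192)]),
(1920, [(5, 1, 5), (6, 1, 6), (3, 1, 6), (8, 1, 8), (4, 2, 8), (4, 1, 16), (2, 1, 96), (2, 1, 96), (2, 1, 128)]),
(1920, [(5, 1, 5), (6, 1, 6), (3, 1, 6), (8, 1, 8), (4, 2, 8), (4, 1, 32), (2, 1, 32), (2, 1, 48), (2, 1, 128)]),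
(1920, [(5, 1, 5), (6, 1, 6), (3, 1, 6), (8, 1, 8), (4, 2, 8), (4, 1, 32), (4, 1, 32), (2, 1, 48), (2, 1, 128)]),
(1920, [(5, 1, 5), (6, 1, 6), (3, 1, 6), (8, 1, 8), (4, 2, 8), (4, 2, 32), (2, 1, 48), (2, 1, 128)]),
(1920, [(5, 1, 5), (6, 1, 6), (3, 1, 6), (8, 1, 8), (4, 2, 8), (8, 1, 32), (4, 1, 32), (2, 1, 48), (2, 1, 128)]),
(1920, [(5, 1, 5), (6, 1, 6), (3, 1, 6), (8, 1, 8), (8, 1, 8), (4, 1, 8), (2, 1, 24), (4, 1, 32), (2, 1, 96), (2, 1, 128)]),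
(1920, [(5, 1, 5), (6, 1, 6), (3, 1, 6), (8, 1, 8), (8, 1, 8), (4, 1, 8), (4, 1, 16), (2, 1, 64), (2, 1, 128), (2, 1, 192)]),
(1920, [(5, 1, 5), (6, 1, 6), (3, 1, 6), (8, 1, 8), (8, 1, 8), (4, 1, 8), (4, 1, 16), (2, 1, 96), (2, 1, 96), (2, 1, 128)]),
(1920, [(5, 1, 5), (6, 1, 6), (3, 1, 6), (8, 1, 8), (8, 1, 8), (4, 1, 8), (4, 1, 32), (2, 1, 32), (2, 1, 48), (2, 1, 128)]),
(1920, [(5, 1, 5), (6, 1, 6), (3, 1, 6), (8, 1, 8), (8, 1, 8), (4, 1, 8), (4, 1, 32), (4, 1, 32), (2, 1, 48), (2, 1, 128)]),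
(1920, [(5, 1, 5), (6, 1, 6), (3, 1, 6), (8, 1, 8), (8, 1, 8), (4, 1, 8), (4, 2, 32), (2, 1, 48), (2, 1, 128)]),
(1920, [(5, 1, 5), (6, 1, 6), (3, 1, 6), (8, 1, 8), (8, 1, 8), (4, 1, 8), (8, 1, 32), (4, 1, 32), (2, 1, 48), (2, 1, 128)]),
(1920, [(5, 1, 5), (6, 1, 6), (3, 1, 6), (8, 1, 8), (8, 1, 8), (4, 1, 16), (4, 1, 16), (4, 1, 16), (2, 1, 48), (2, 1, 128)]),
(1920, [(5, 1, 5), (6, 1, 6), (3, 1, 6), (8, 1, 8), (8, 1, 8), (4, 1, 16), (4, 2, 16), (2, 1, 48), (2, 1, 128)]),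
(1920, [(5, 1, 5), (6, 1, 6), (3, 1, 6), (8, 1, 8), (8, 1, 8), (8, 1, 8), (2, 1, 24), (4, 1, 32), (2, 1, 96), (2, 1, 128)]),
(1920, [(5, 1, 5), (6, 1, 6), (3, 1, 6), (8, 1, 8), (8, 1, 8), (8, 1, 8), (4, 1, 16), (2, 1, 64), (2, 1, 128), (2, 1, 192)]),
(1920, [(5, 1, 5), (6, 1, 6), (3, 1, 6), (8, 1, 8), (8, 1, 8), (8, 1, 8), (4, 1, 16), (2, 1, 96), (2, 1, 96), (2, 1, 128)]),
(1920, [(5, 1, 5), (6, 1, 6), (3, 1, 6), (8, 1, 8), (8, 1, 8), (8, 1, 8), (4, 1, 32), (2, 1, 32), (2, 1, 48), (2, 1, 128)]),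
(1920, [(5, 1, 5), (6, 1, 6), (3, 1, 6), (8, 1, 8), (8, 1, 8), (8, 1, 8), (4, 1, 32), (4, 1, 32), (2, 1, 48), (2, 1, 128)]),
(1920, [(5, 1, 5), (6, 1, 6), (3, 1, 6), (8, 1, 8), (8, 1, 8), (8, 1, 8), (4, 2, 32), (2, 1, 48), (2, 1, 128)]),
(1920, [(5, 1, 5), (6, 1, 6), (3, 1, 6), (8, 1, 8), (8, 1, 8), (8, 1, 8), (8, 1, 32), (4, 1, 32), (2, 1, 48), (2, 1, 128)]),
(1920, [(5, 1, 5), (6, 1, 6), (3, 1, 6), (8, 1, 8), (8, 1, 8), (8, 1, 16), (4, 1, 16), (4, 1, 16), (2, 1, 48), (2, 1, 128)]),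
(1920, [(5, 1, 5), (6, 1, 6), (3, 1, 6), (8, 1, 8), (8, 1, 8), (8, 1, 16), (4, 2, 16), (2, 1, 48), (2, 1, 128)]),
(1920, [(5, 1, 5), (6, 1, 6), (3, 1, 6), (8, 1, 8), (8, 1, 8), (8, 1, 16), (8, 1, 16), (4, 1, 16), (2, 1, 48), (2, 1, 128)]),
(1920, [(5, 1, 5), (6, 1, 6), (3, 1, 6), (8, 1, 8), (8, 1, 8), (8, 2, 16), (4, 1, 16), (2, 1, 48), (2, 1, 128)]),
(1920, [(5, 1, 5), (6, 1, 6), (3, 1, 6), (8, 1, 8), (8, 1, 8), (16, 1, 16), (8, 1, 16), (4, 1, 16), (2, 1, 48), (2, 1, 128)]),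
(1920, [(5, 1, 5), (6, 1, 6), (3, 1, 6), (8, 1, 8), (8, 2, 8), (2, 1, 24), (4, 1, 32), (2, 1, 96), (2, 1, 128)]),
(1920, [(5, 1, 5), (6, 1, 6), (3, 1, 6), (8, 1, 8), (8, 2, 8), (4, 1, 16), (2, 1, 64), (2, 1, 128), (2, 1, 192)]),
(1920, [(5, 1, 5), (6, 1, 6), (3, 1, 6), (8, 1, 8), (8, 2, 8), (4, 1, 16), (2, 1, 96), (2, 1, 96), (2, 1, 128)]),
(1920, [(5, 1, 5), (6, 1, 6), (3, 1, 6), (8, 1, 8), (8, 2, 8), (4, 1, 32), (2, 1, 32), (2, 1, 48), (2, 1, 128)]),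
(1920, [(5, 1, 5), (6, 1, 6), (3, 1, 6), (8, 1, 8), (8, 2, 8), (4, 1, 32), (4, 1, 32), (2, 1, 48), (2, 1, 128)]),
(1920, [(5, 1, 5), (6, 1, 6), (3, 1, 6), (8, 1, 8), (8, 2, 8), (4, 2, 32), (2, 1, 48), (2, 1, 128)]),
(1920, [(5, 1, 5), (6, 1, 6), (3, 1, 6), (8, 1, 8), (8, 2, 8), (8, 1, 32), (4, 1, 32), (2, 1, 48), (2, 1, 128)]),
(1920, [(5, 1, 5), (6, 1, 6), (3, 1, 6), (8, 2, 8), (4, 1, 8), (2, 1, 24), (4, 1, 32), (2, 1, 96), (2, 1, 128)]),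
(1920, [(5, 1, 5), (6, 1, 6), (3, 1, 6), (8, 2, 8), (4, 1, 8), (4, 1, 16), (2, 1, 64), (2, 1, 128), (2, 1, 192)]),
(1920, [(5, 1, 5), (6, 1, 6), (3, 1, 6), (8, 2, 8), (4, 1, 8), (4, 1, 16), (2, 1, 96), (2, 1, 96), (2, 1, 128)]),
(1920, [(5, 1, 5), (6, 1, 6), (3, 1, 6), (8, 2, 8), (4, 1, 8), (4, 1, 32), (2, 1, 32), (2, 1, 48), (2, 1, 128)]),
(1920, [(5, 1, 5), (6, 1, 6), (3, 1, 6), (8, 2, 8), (4, 1, 8), (4, 1, 32), (4, 1, 32), (2, 1, 48), (2, 1, 128)]),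
(1920, [(5, 1, 5), (6, 1, 6), (3, 1, 6), (8, 2, 8), (4, 1, 8), (4, 2, 32), (2, 1, 48), (2, 1, 128)]),
(1920, [(5, 1, 5), (6, 1, 6), (3, 1, 6), (8, 2, 8), (4, 1, 8), (8, 1, 32), (4, 1, 32), (2, 1, 48), (2, 1, 128)]),
(1920, [(5, 1, 5), (6, 1, 6), (3, 1, 6), (8, 2, 8), (4, 1, 16), (4, 1, 16), (4, 1, 16), (2, 1, 48), (2, 1, 128)]),
(1920, [(5, 1, 5), (6, 1, 6), (3, 1, 6), (8, 2, 8), (4, 1, 16), (4, 2, 16), (2, 1, 48), (2, 1, 128)]),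
(1920, [(5, 1, 5), (6, 1, 6), (3, 1, 6), (8, 2, 8), (8, 1, 16), (4, 1, 16), (4, 1, 16), (2, 1, 48), (2, 1, 128)]),
(1920, [(5, 1, 5), (6, 1, 6), (3, 1, 6), (8, 2, 8), (8, 1, 16), (4, 2, 16), (2, 1, 48), (2, 1, 128)]),
(1920, [(5, 1, 5), (6, 1, 6), (3, 1, 6), (8, 2, 8), (8, 1, 16), (8, 1, 16), (4, 1, 16), (2, 1, 48), (2, 1, 128)]),
(1920, [(5, 1, 5), (6, 1, 6), (3, 1, 6), (8, 2, 8), (8, 2, 16), (4, 1, 16), (2, 1, 48), (2, 1, 128)]),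
(1920, [(5, 1, 5), (6, 1, 6), (3, 1, 6), (8, 2, 8), (16, 1, 16), (8, 1, 16), (4, 1, 16), (2, 1, 48), (2, 1, 128)]),
(2448, [(8, 2, 8), (4, 1, 8), (3, 1, 9), (3, 1, 9), (3, 1, 9), (3, 1, 9), (2, 1, 16), (17, 2, 17)]),
(2448, [(8, 2, 8), (4, 1, 8), (9, 3, 9), (3, 1, 9), (2, 1, 16), (17, 2, 17)]),
(4032, [(6, 1, 6), (7, 3, 7), (4, 1, 8), (4, 1, 8), (4, 1, 16), (3, 1, 18), (2, 1, 32), (2, 1, 192)]),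
(4032, [(6, 1, 6), (7, 3, 7), (4, 1, 8), (4, 1, 8), (4, 1, 16), (3, 1, 18), (2, 1, 48), (2, 1, 64)]),
(4032, [(6, 1, 6), (7, 3, 7), (4, 2, 8), (4, 1, 16), (3, 1, 18), (2, 1, 32), (2, 1, 192)]),
(4032, [(6, 1, 6), (7, 3, 7), (4, 2, 8), (4, 1, 16), (3, 1, 18), (2, 1, 48), (2, 1, 64)]),
(4032, [(6, 1, 6), (7, 3, 7), (8, 1, 8), (4, 1, 8), (4, 1, 16), (3, 1, 18), (2, 1, 32), (2, 1, 192)]),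
(4032, [(6, 1, 6), (7, 3, 7), (8, 1, 8), (4, 1, 8), (4, 1, 16), (3, 1, 18), (2, 1, 48), (2, 1, 64)]),
(4032, [(6, 1, 6), (7, 3, 7), (8, 1, 8), (8, 1, 8), (4, 1, 16), (3, 1, 18), (2, 1, 32), (2, 1, 192)]),
(4032, [(6, 1, 6), (7, 3, 7), (8, 1, 8), (8, 1, 8), (4, 1, 16), (3, 1, 18), (2, 1, 48), (2, 1, 64)]),
(4032, [(6, 1, 6), (7, 3, 7), (8, 2, 8), (4, 1, 16), (3, 1, 18), (2, 1, 32), (2, 1, 192)]),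
(4032, [(6, 1, 6), (7, 3, 7), (8, 2, 8), (4, 1, 16), (3, 1, 18), (2, 1, 48), (2, 1, 64)]),
(4320, [(5, 1, 5), (4, 1, 8), (4, 1, 8), (3, 1, 9), (3, 1, 9), (3, 2, 9), (3, 2, 27), (2, 1, 32)]),
(4320, [(5, 1, 5), (4, 1, 8), (4, 1, 8), (3, 2, 9), (3, 2, 9), (3, 1, 27), (3, 1, 27), (2, 1, 32)]),
(4320, [(5, 1, 5), (4, 1, 8), (4, 1, 8), (9, 2, 9), (3, 1, 9), (3, 1, 9), (3, 2, 27), (2, 1, 32)]),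
(4320, [(5, 1, 5), (4, 1, 8), (4, 1, 8), (9, 2, 9), (3, 2, 9), (3, 1, 27), (3, 1, 27), (2, 1, 32)]),
(4320, [(5, 1, 5), (4, 1, 8), (4, 1, 8), (9, 2, 9), (9, 2, 9), (3, 1, 27), (3, 1, 27), (2, 1, 32)]),
(4320, [(5, 1, 5), (8, 1, 8), (4, 1, 8), (3, 1, 9), (3, 1, 9), (3, 2, 9), (3, 2, 27), (2, 1, 32)]),
(4320, [(5, 1, 5), (8, 1, 8), (4, 1, 8), (3, 2, 9), (3, 2, 9), (3, 1, 27), (3, 1, 27), (2, 1, 32)]),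
(4320, [(5, 1, 5), (8, 1, 8), (4, 1, 8), (9, 2, 9), (3, 1, 9), (3, 1, 9), (3, 2, 27), (2, 1, 32)]),
(4320, [(5, 1, 5), (8, 1, 8), (4, 1, 8), (9, 2, 9), (3, 2, 9), (3, 1, 27), (3, 1, 27), (2, 1, 32)]),
(4320, [(5, 1, 5), (8, 1, 8), (4, 1, 8), (9, 2, 9), (9, 2, 9), (3, 1, 27), (3, 1, 27), (2, 1, 32)]),
(5600, [(7, 3, 7), (4, 1, 8), (4, 1, 8), (4, 1, 8), (4, 1, 16), (4, 1, 16), (5, 1, 25), (2, 1, 32)]),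
(5600, [(7, 3, 7), (4, 1, 8), (4, 1, 8), (4, 1, 8), (4, 2, 16), (5, 1, 25), (2, 1, 32)]),
(5600, [(7, 3, 7), (4, 1, 8), (4, 2, 8), (4, 1, 16), (4, 1, 16), (5, 1, 25), (2, 1, 32)]),
(5600, [(7, 3, 7), (4, 1, 8), (4, 2, 8), (4, 2, 16), (5, 1, 25), (2, 1, 32)]),
(5600, [(7, 3, 7), (8, 1, 8), (4, 1, 8), (4, 1, 8), (4, 1, 16), (4, 1, 16), (5, 1, 25), (2, 1, 32)]),
(5600, [(7, 3, 7), (8, 1, 8), (4, 1, 8), (4, 1, 8), (4, 2, 16), (5, 1, 25), (2, 1, 32)]),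
(5600, [(7, 3, 7), (8, 1, 8), (4, 2, 8), (4, 1, 16), (4, 1, 16), (5, 1, 25), (2, 1, 32)]),
(5600, [(7, 3, 7), (8, 1, 8), (4, 2, 8), (4, 2, 16), (5, 1, 25), (2, 1, 32)]),
(5600, [(7, 3, 7), (8, 1, 8), (8, 1, 8), (4, 1, 8), (4, 1, 16), (4, 1, 16), (5, 1, 25), (2, 1, 32)]),
(5600, [(7, 3, 7), (8, 1, 8), (8, 1, 8), (4, 1, 8), (4, 2, 16), (5, 1, 25), (2, 1, 32)]),
(5600, [(7, 3, 7), (8, 1, 8), (8, 1, 8), (8, 1, 8), (4, 1, 16), (4, 1, 16), (5, 1, 25), (2, 1, 32)]),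
(5600, [(7, 3, 7), (8, 1, 8), (8, 1, 8), (8, 1, 8), (4, 2, 16), (5, 1, 25), (2, 1, 32)]),
(5600, [(7, 3, 7), (8, 1, 8), (8, 2, 8), (4, 1, 16), (4, 1, 16), (5, 1, 25), (2, 1, 32)]),
(5600, [(7, 3, 7), (8, 1, 8), (8, 2, 8), (4, 2, 16), (5, 1, 25), (2, 1, 32)]),
(5600, [(7, 3, 7), (8, 2, 8), (4, 1, 8), (4, 1, 16), (4, 1, 16), (5, 1, 25), (2, 1, 32)]),
(5600, [(7, 3, 7), (8, 2, 8), (4, 1, 8), (4, 2, 16), (5, 1, 25), (2, 1, 32)]),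
(5760, [(5, 2, 5), (6, 1, 6), (3, 1, 9), (3, 1, 9), (3, 1, 9), (3, 1, 18), (2, 1, 48), (4, 1, 64), (2, 1, 128)]),
(5760, [(5, 2, 5), (6, 1, 6), (3, 1, 9), (3, 2, 9), (3, 1, 18), (2, 1, 48), (4, 1, 64), (2, 1, 128)]),
(5760, [(5, 2, 5), (6, 1, 6), (9, 3, 9), (3, 1, 18), (2, 1, 48), (4, 1, 64), (2, 1, 128)]),
(6048, [(6, 2, 6), (7, 2, 7), (3, 1, 9), (3, 2, 9), (3, 1, 54), (3, 1, 54), (2, 1, 96)]),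
(6048, [(6, 2, 6), (7, 2, 7), (3, 1, 9), (3, 2, 9), (3, 2, 54), (2, 1, 96)]),
(6048, [(6, 2, 6), (7, 2, 7), (3, 2, 9), (3, 1, 18), (3, 1, 18), (3, 1, 27), (2, 1, 96)]),
(6048, [(6, 2, 6), (7, 2, 7), (3, 2, 9), (3, 2, 18), (3, 1, 27), (2, 1, 96)]),
(6048, [(6, 2, 6), (7, 2, 7), (9, 1, 9), (3, 2, 9), (3, 1, 54), (3, 1, 54), (2, 1, 96)]),
(6048, [(6, 2, 6), (7, 2, 7), (9, 1, 9), (3, 2, 9), (3, 2, 54), (2, 1, 96)]),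
(6048, [(6, 2, 6), (7, 2, 7), (9, 1, 9), (9, 2, 9), (3, 1, 54), (3, 1, 54), (2, 1, 96)]),
(6048, [(6, 2, 6), (7, 2, 7), (9, 1, 9), (9, 2, 9), (3, 2, 54), (2, 1, 96)]),
(6048, [(6, 2, 6), (7, 2, 7), (9, 2, 9), (3, 1, 9), (3, 1, 54), (3, 1, 54), (2, 1, 96)]),
(6048, [(6, 2, 6), (7, 2, 7), (9, 2, 9), (3, 1, 9), (3, 2, 54), (2, 1, 96)]),
(6048, [(6, 2, 6), (7, 2, 7), (9, 2, 9), (3, 1, 18), (3, 1, 18), (3, 1, 27), (2, 1, 96)]),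
(6048, [(6, 2, 6), (7, 2, 7), (9, 2, 9), (3, 2, 18), (3, 1, 27), (2, 1, 96)]),
(6048, [(7, 2, 7), (4, 1, 8), (4, 1, 8), (3, 1, 9), (3, 1, 9), (3, 1, 9), (4, 1, 16), (3, 1, 27), (2, 1, 32)]),
(6048, [(7, 2, 7), (4, 1, 8), (4, 1, 8), (3, 1, 9), (3, 2, 9), (4, 1, 16), (3, 1, 27), (2, 1, 32)]),
(6048, [(7, 2, 7), (4, 1, 8), (4, 1, 8), (9, 2, 9), (3, 1, 9), (4, 1, 16), (3, 1, 27), (2, 1, 32)]),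
(6048, [(7, 2, 7), (4, 1, 8), (4, 1, 8), (9, 3, 9), (4, 1, 16), (3, 1, 27), (2, 1, 32)]),
(6048, [(7, 2, 7), (4, 2, 8), (3, 1, 9), (3, 1, 9), (3, 1, 9), (4, 1, 16), (3, 1, 27), (2, 1, 32)]),
(6048, [(7, 2, 7), (4, 2, 8), (9, 3, 9), (4, 1, 16), (3, 1, 27), (2, 1, 32)]),
(6048, [(7, 2, 7), (8, 1, 8), (4, 1, 8), (3, 1, 9), (3, 1, 9), (3, 1, 9), (4, 1, 16), (3, 1, 27), (2, 1, 32)]),
(6048, [(7, 2, 7), (8, 1, 8), (4, 1, 8), (3, 1, 9), (3, 2, 9), (4, 1, 16), (3, 1, 27), (2, 1, 32)]),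
(6048, [(7, 2, 7), (8, 1, 8), (4, 1, 8), (9, 2, 9), (3, 1, 9), (4, 1, 16), (3, 1, 27), (2, 1, 32)]),
(6048, [(7, 2, 7), (8, 1, 8), (4, 1, 8), (9, 3, 9), (4, 1, 16), (3, 1, 27), (2, 1, 32)]),
(6048, [(7, 2, 7), (8, 1, 8), (8, 1, 8), (3, 1, 9), (3, 1, 9), (3, 1, 9), (4, 1, 16), (3, 1, 27), (2, 1, 32)]),
(6048, [(7, 2, 7), (8, 1, 8), (8, 1, 8), (3, 1, 9), (3, 2, 9), (4, 1, 16), (3, 1, 27), (2, 1, 32)]),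
(6048, [(7, 2, 7), (8, 1, 8), (8, 1, 8), (9, 2, 9), (3, 1, 9), (4, 1, 16), (3, 1, 27), (2, 1, 32)]),
(6048, [(7, 2, 7), (8, 1, 8), (8, 1, 8), (9, 3, 9), (4, 1, 16), (3, 1, 27), (2, 1, 32)]),
(6048, [(7, 2, 7), (8, 2, 8), (3, 1, 9), (3, 1, 9), (3, 1, 9), (4, 1, 16), (3, 1, 27), (2, 1, 32)]),
(6048, [(7, 2, 7), (8, 2, 8), (3, 1, 9), (3, 2, 9), (4, 1, 16), (3, 1, 27), (2, 1, 32)]),
(6048, [(7, 2, 7), (8, 2, 8), (9, 2, 9), (3, 1, 9), (4, 1, 16), (3, 1, 27), (2, 1, 32)]),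
(6048, [(7, 2, 7), (8, 2, 8), (9, 3, 9), (4, 1, 16), (3, 1, 27), (2, 1, 32)]),
(7920, [(5, 1, 5), (6, 1, 6), (4, 1, 8), (4, 1, 8), (11, 2, 11), (4, 2, 16), (3, 1, 18), (2, 1, 48)]),
(7920, [(5, 1, 5), (6, 1, 6), (4, 2, 8), (11, 2, 11), (4, 2, 16), (3, 1, 18), (2, 1, 48)]),
(7920, [(5, 1, 5), (6, 1, 6), (8, 2, 8), (11, 2, 11), (4, 2, 16), (3, 1, 18), (2, 1, 48)]),
(13440, [(6, 1, 6), (3, 1, 6), (7, 3, 7), (10, 1, 10), (5, 1, 10), (2, 1, 48), (4, 1, 64), (2, 1, 640)]),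
(15600, [(6, 1, 6), (3, 1, 6), (4, 1, 8), (4, 1, 8), (4, 1, 8), (13, 3, 13), (5, 1, 25), (2, 1, 48)]),
(15600, [(6, 1, 6), (3, 1, 6), (4, 1, 8), (4, 2, 8), (13, 3, 13), (5, 1, 25), (2, 1, 48)]),
(15600, [(6, 1, 6), (3, 1, 6), (8, 2, 8), (4, 1, 8), (13, 3, 13), (5, 1, 25), (2, 1, 48)]),
(20160, [(5, 2, 5), (7, 2, 7), (3, 1, 9), (4, 1, 16), (4, 1, 16), (4, 1, 32), (4, 1, 32), (2, 1, 64)]),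
(20160, [(5, 2, 5), (7, 2, 7), (3, 1, 9), (4, 1, 16), (4, 1, 16), (4, 2, 32), (2, 1, 64)]),
(20160, [(5, 2, 5), (7, 2, 7), (3, 1, 9), (4, 2, 16), (4, 1, 32), (4, 1, 32), (2, 1, 64)]),
(20160, [(5, 2, 5), (7, 2, 7), (3, 1, 9), (8, 1, 16), (4, 1, 16), (4, 1, 32), (4, 1, 32), (2, 1, 64)]),
(20160, [(5, 2, 5), (7, 2, 7), (3, 1, 9), (8, 1, 16), (4, 1, 16), (4, 2, 32), (2, 1, 64)]),
(20160, [(5, 2, 5), (7, 2, 7), (3, 1, 9), (8, 1, 16), (8, 1, 16), (4, 1, 32), (4, 1, 32), (2, 1, 64)]),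
(20160, [(5, 2, 5), (7, 2, 7), (3, 1, 9), (8, 1, 16), (8, 1, 16), (4, 2, 32), (2, 1, 64)]),
(20160, [(5, 2, 5), (7, 2, 7), (3, 1, 9), (8, 2, 16), (4, 1, 32), (4, 1, 32), (2, 1, 64)]),
(20160, [(5, 2, 5), (7, 2, 7), (3, 1, 9), (8, 2, 16), (4, 2, 32), (2, 1, 64)]),
(20160, [(5, 2, 5), (7, 2, 7), (4, 1, 8), (3, 1, 9), (4, 1, 32), (4, 2, 64), (2, 1, 64)]),
(20160, [(5, 2, 5), (7, 2, 7), (8, 1, 8), (3, 1, 9), (4, 1, 32), (4, 2, 64), (2, 1, 64)]),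
(29120, [(5, 1, 5), (7, 3, 7), (13, 3, 13), (4, 1, 16), (4, 1, 16), (2, 1, 64)]),
(29120, [(5, 1, 5), (7, 3, 7), (13, 3, 13), (4, 2, 16), (2, 1, 64)]),
(29120, [(5, 1, 5), (7, 3, 7), (13, 3, 13), (8, 1, 16), (4, 1, 16), (2, 1, 64)]),
(29160, [(4, 1, 4), (5, 2, 5), (3, 1, 9), (3, 1, 9), (6, 1, 18), (6, 1, 18), (2, 1, 72), (3, 1, 486), (3, 1, 1458)]),
(29160, [(4, 1, 4), (5, 2, 5), (3, 1, 9), (3, 1, 9), (6, 2, 18), (2, 1, 72), (3, 1, 486), (3, 1, 1458)]),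
(29160, [(4, 1, 4), (5, 2, 5), (3, 1, 9), (3, 1, 9), (18, 1, 18), (6, 1, 18), (2, 1, 72), (9, 1, 486), (3, 1, 1458)]),
(29160, [(4, 1, 4), (5, 2, 5), (3, 2, 9), (6, 1, 18), (6, 1, 18), (2, 1, 72), (3, 1, 486), (3, 1, 1458)]),
(29160, [(4, 1, 4), (5, 2, 5), (3, 2, 9), (6, 2, 18), (2, 1, 72), (3, 1, 486), (3, 1, 1458)]),
(29160, [(4, 1, 4), (5, 2, 5), (3, 2, 9), (18, 1, 18), (6, 1, 18), (2, 1, 72), (9, 1, 486), (3, 1, 1458)]),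
(29160, [(4, 1, 4), (5, 2, 5), (9, 1, 9), (3, 1, 9), (6, 1, 18), (6, 1, 18), (2, 1, 72), (3, 1, 486), (3, 1, 1458)]),
(29160, [(4, 1, 4), (5, 2, 5), (9, 1, 9), (3, 1, 9), (6, 2, 18), (2, 1, 72), (3, 1, 486), (3, 1, 1458)]),
(29160, [(4, 1, 4), (5, 2, 5), (9, 1, 9), (3, 1, 9), (18, 1, 18), (6, 1, 18), (2, 1, 72), (9, 1, 486), (3, 1, 1458)]),
(29160, [(4, 1, 4), (5, 2, 5), (9, 1, 9), (9, 1, 9), (6, 1, 18), (6, 1, 18), (2, 1, 72), (3, 1, 486), (3, 1, 1458)]),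
(29160, [(4, 1, 4), (5, 2, 5), (9, 1, 9), (9, 1, 9), (6, 2, 18), (2, 1, 72), (3, 1, 486), (3, 1, 1458)]),
(29160, [(4, 1, 4), (5, 2, 5), (9, 1, 9), (9, 1, 9), (18, 1, 18), (6, 1, 18), (2, 1, 72), (9, 1, 486), (3, 1, 1458)]),
(29160, [(4, 1, 4), (5, 2, 5), (9, 2, 9), (6, 1, 18), (6, 1, 18), (2, 1, 72), (3, 1, 486), (3, 1, 1458)]),
(29160, [(4, 1, 4), (5, 2, 5), (9, 2, 9), (6, 2, 18), (2, 1, 72), (3, 1, 486), (3, 1, 1458)]),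
(29160, [(4, 1, 4), (5, 2, 5), (9, 2, 9), (18, 1, 18), (6, 1, 18), (2, 1, 72), (9, 1, 486), (3, 1, 1458)]),
(86016, [(6, 1, 6), (3, 1, 6), (7, 2, 7), (4, 1, 8), (4, 1, 8), (4, 1, 8), (2, 1, 192), (2, 1, 2048), (2, 1, 4096)]),
(86016, [(6, 1, 6), (3, 1, 6), (7, 2, 7), (4, 1, 8), (4, 1, 8), (4, 1, 8), (2, 1, 192), (4, 1, 2048), (2, 1, 4096)]),
(86016, [(6, 1, 6), (3, 1, 6), (7, 2, 7), (4, 1, 8), (4, 2, 8), (2, 1, 192), (2, 1, 2048), (2, 1, 4096)]),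
(86016, [(6, 1, 6), (3, 1, 6), (7, 2, 7), (4, 1, 8), (4, 2, 8), (2, 1, 192), (4, 1, 2048), (2, 1, 4096)]),
(86016, [(6, 1, 6), (3, 1, 6), (7, 2, 7), (8, 1, 8), (4, 1, 8), (4, 1, 8), (2, 1, 192), (2, 1, 2048), (2, 1, 4096)]),
(86016, [(6, 1, 6), (3, 1, 6), (7, 2, 7), (8, 1, 8), (4, 1, 8), (4, 1, 8), (2, 1, 192), (4, 1, 2048), (2, 1, 4096)]),
(86016, [(6, 1, 6), (3, 1, 6), (7, 2, 7), (8, 1, 8), (4, 2, 8), (2, 1, 192), (2, 1, 2048), (2, 1, 4096)]),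
(86016, [(6, 1, 6), (3, 1, 6), (7, 2, 7), (8, 1, 8), (4, 2, 8), (2, 1, 192), (4, 1, 2048), (2, 1, 4096)]),
(86016, [(6, 1, 6), (3, 1, 6), (7, 2, 7), (8, 1, 8), (8, 1, 8), (4, 1, 8), (2, 1, 192), (2, 1, 2048), (2, 1, 4096)]),
(86016, [(6, 1, 6), (3, 1, 6), (7, 2, 7), (8, 1, 8), (8, 1, 8), (4, 1, 8), (2, 1, 192), (4, 1, 2048), (2, 1, 4096)]),
(86016, [(6, 1, 6), (3, 1, 6), (7, 2, 7), (8, 1, 8), (8, 1, 8), (8, 1, 8), (2, 1, 192), (4, 1, 2048), (2, 1, 4096)]),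
(86016, [(6, 1, 6), (3, 1, 6), (7, 2, 7), (8, 1, 8), (8, 2, 8), (2, 1, 192), (4, 1, 2048), (2, 1, 4096)]),
(86016, [(6, 1, 6), (3, 1, 6), (7, 2, 7), (8, 2, 8), (4, 1, 8), (2, 1, 192), (2, 1, 2048), (2, 1, 4096)]),
(86016, [(6, 1, 6), (3, 1, 6), (7, 2, 7), (8, 2, 8), (4, 1, 8), (2, 1, 192), (4, 1, 2048), (2, 1, 4096)]),
(2064384, [(7, 3, 7), (4, 1, 8), (3, 1, 9), (3, 1, 9), (3, 1, 9), (3, 1, 9), (2, 1, 512), (2, 1, 32768)]),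
(2064384, [(7, 3, 7), (4, 1, 8), (9, 3, 9), (3, 1, 9), (2, 1, 512), (2, 1, 32768)])]

/-- one part of the search -/
def Part (lo hi : ℕ) : Prop := go2 T11.tabs (finB sv) (skip2 (nat_lit 10) lo hi) 13 (st0 10) = true

end Cfsg.Agent.KC2.R11
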